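import Groth.Prelude.Def_BigSite
import Mathlib.CategoryTheory.Sites.Continuous
import Mathlib.CategoryTheory.Sites.LocallyBijective
import Mathlib.CategoryTheory.Sites.Limits
import Mathlib.CategoryTheory.FinCategory.Basic
import Mathlib.CategoryTheory.IsConnected
import Mathlib.CategoryTheory.Limits.Types.Colimits

/-!
Sheafification and almost cocontinuous functors.
-/

set_option autoImplicit false
set_option linter.style.haveILetI false
set_option backward.defeqAttrib.useBackward true
set_option backward.isDefEq.respectTransparency false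

universe u

open CategoryTheory CategoryTheory.Limits Opposite

namespace Groth.Agent.AlmostCocont

variable {C D : Type u} [SmallCategory C] [SmallCategory D] (J : GrothendieckTopology C) (K : GrothendieckTopology D)

/-- Sections of a sheaf over an object covered by the empty sieve. -/
theorem nonempty_unique (F : Sheaf K (Type u)) {V : D} (hV : (⊥ : Sieve V) ∈ K V) :
    Nonempty (Unique (F.obj.obj (op V))) := by
  have h := (isSheaf_iff_isSheaf_of_type K F.obj).1 F.property ⊥ hV
  obtain ⟨t, -⟩ := h (fun _ _ h => h.elim) (fun _ _ _ _ _ _ _ h => h.elim)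
  exact ⟨⟨⟨t⟩, fun a => h.isSeparatedFor.ext fun _ _ h => h.elim⟩⟩

variable (u₀ : C ⥤ D) (hu : BigSite.IsAlmostCocontinuous u₀ J K) (G : Dᵒᵖ ⥤ Type u)
  (hG : ∀ V : D, (⊥ : Sieve V) ∈ K V → Nonempty (Unique (G.obj (op V))))

include hu hG

theorem W_whiskerLeft_toSheafify :
    J.W (Functor.whiskerLeft u₀.op (toSheafify K G) : u₀.op ⋙ G ⟶ u₀.op ⋙ sheafify K G) := by
  haveI : Presheaf.IsLocallyInjective J (Functor.whiskerLeft u₀.op (toSheafify K G)) := ⟨fun {U} x y h => by
    obtain ⟨R', hR', hR⟩ := hu U.unop _ (Presheaf.equalizerSieve_mem K (toSheafify K G) x y h)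
    refine J.superset_covering (fun V g hg => ?_) hR'
    rcases hR g hg with h' | h'
    · obtain ⟨hh⟩ := hG _ h'
      haveI := hh
      exact @Subsingleton.elim (G.obj (op (u₀.obj V))) inferInstance _ _
    · exact h'⟩
  haveI : Presheaf.IsLocallySurjective J (Functor.whiskerLeft u₀.op (toSheafify K G)) := ⟨fun {U} s => by
    obtain ⟨R', hR', hR⟩ := hu U _ (Presheaf.imageSieve_mem K (toSheafify K G) s)
    refine J.superset_covering (fun V g hg => ?_) hR'
    rcases hR g hg with h' | h'
    · obtain ⟨hh⟩ := hG _ h'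
      obtain ⟨hs⟩ := nonempty_unique K ((presheafToSheaf K (Type u)).obj G) h'
      haveI := hs
      exact ⟨hh.default, @Subsingleton.elim (((presheafToSheaf K (Type u)).obj G).obj.obj (op (u₀.obj V))) inferInstance _ _⟩
    · exact h'⟩
  exact J.W_of_isLocallyBijective _

variable [u₀.IsContinuous J K]

theorem isIso_comparison :
    IsIso (((sheafificationAdjunction J (Type u)).homEquiv (u₀.op ⋙ G)
      ((u₀.sheafPushforwardContinuous (Type u) J K).obj ((presheafToSheaf K (Type u)).obj G))).symm
        (Functor.whiskerLeft u₀.op (toSheafify K G))) := by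
  rw [Adjunction.homEquiv_counit]
  haveI : IsIso ((presheafToSheaf J (Type u)).map (Functor.whiskerLeft u₀.op (toSheafify K G))) :=
    (J.W_iff (Functor.whiskerLeft u₀.op (toSheafify K G))).1 (W_whiskerLeft_toSheafify J K u₀ hu G hG)
  exact IsIso.comp_isIso' this inferInstance

omit hG G

theorem preservesColimit {I : Type} [SmallCategory I] [IsConnected I] :
    PreservesColimitsOfShape I (u₀.sheafPushforwardContinuous (Type u) J K) := by
  refine ⟨fun {F} => ?_⟩
  let c₀ : Cocone (F ⋙ sheafToPresheaf K (Type u)) := colimit.cocone _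
  let hc := Sheaf.isColimitSheafifyCocone c₀ (colimit.isColimit _)
  refine preservesColimit_of_preserves_colimit_cocone hc ?_
  have hG : ∀ V : D, (⊥ : Sieve V) ∈ K V → Nonempty (Unique (c₀.pt.obj (op V))) := fun V hV => by
    let hev := isColimitOfPreserves ((evaluation Dᵒᵖ (Type u)).obj (op V)) (colimit.isColimit (F ⋙ sheafToPresheaf K (Type u)))
    obtain ⟨i₀⟩ := (inferInstance : Nonempty I)
    have hi : ∀ i, Nonempty (Unique ((F.obj i).obj.obj (op V))) := fun i => nonempty_unique K (F.obj i) hV
    let t : I → c₀.pt.obj (op V) := fun i => (c₀.ι.app i).app (op V) (hi i).some.default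
    refine ⟨⟨⟨t i₀⟩, fun a => ?_⟩⟩
    obtain ⟨i, x, rfl⟩ := Types.jointly_surjective_of_isColimit hev a
    rw [(hi i).some.uniq x]
    refine constant_of_preserves_morphisms t (fun j j' m => ?_) i i₀
    refine Eq.trans (ConcreteCategory.congr_hom (congrArg (fun (q : (F ⋙ sheafToPresheaf K (Type u)).obj j ⟶ c₀.pt) =>
      q.app (op V)) (c₀.w m)) (hi j).some.default).symm ?_
    exact congrArg (fun z => (c₀.ι.app j').app (op V) z) ((hi j').some.uniq _)
  let E : Cocone ((F ⋙ u₀.sheafPushforwardContinuous (Type u) J K) ⋙ sheafToPresheaf J (Type u)) :=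
    ((Functor.whiskeringLeft Cᵒᵖ Dᵒᵖ (Type u)).obj u₀.op).mapCocone c₀
  let hE : IsColimit E := isColimitOfPreserves _ (colimit.isColimit _)
  let hs := Sheaf.isColimitSheafifyCocone E hE
  haveI := isIso_comparison J K u₀ hu c₀.pt hG
  let e := ((sheafificationAdjunction J (Type u)).homEquiv (u₀.op ⋙ c₀.pt)
      ((u₀.sheafPushforwardContinuous (Type u) J K).obj ((presheafToSheaf K (Type u)).obj c₀.pt))).symm
        (Functor.whiskerLeft u₀.op (toSheafify K c₀.pt))
  refine hs.ofIsoColimit (Cocone.ext (asIso e) fun i => ?_)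
  apply Sheaf.hom_ext
  have he : toSheafify J (u₀.op ⋙ c₀.pt) ≫ e.hom = Functor.whiskerLeft u₀.op (toSheafify K c₀.pt) := by
    have := ((sheafificationAdjunction J (Type u)).homEquiv (u₀.op ⋙ c₀.pt)
      ((u₀.sheafPushforwardContinuous (Type u) J K).obj ((presheafToSheaf K (Type u)).obj c₀.pt))).apply_symm_apply
        (Functor.whiskerLeft u₀.op (toSheafify K c₀.pt))
    rw [Adjunction.homEquiv_unit] at this
    exact this
  show ((Sheaf.sheafifyCocone E).ι.app i).hom ≫ e.hom = Functor.whiskerLeft u₀.op ((Sheaf.sheafifyCocone c₀).ι.app i).hom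
  rw [Sheaf.sheafifyCocone_ι_app_val, Sheaf.sheafifyCocone_ι_app_val, Category.assoc]
  erw [he]
  rfl

end Groth.Agent.AlmostCocont
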